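import Groth.Agent.Lib.FinLocExt4.One
import Groth.Agent.S9708

/-!
Extending finitely many finite locally free modules from a scheme-theoretically dense open, after a blow-up.
-/

set_option autoImplicit false
universe v u

set_option backward.isDefEq.respectTransparency false

open CategoryTheory CategoryTheory.Limits AlgebraicGeometry TopologicalSpace Opposite

namespace Groth.Agent.FinLocExt4

variable {U Y : Scheme.{u}}

theorem isProjective_id (Y : Scheme.{u}) : ∃ (Y' : Scheme.{u}) (b : Y' ⟶ Y), RelProj.IsProjective b ∧ IsProper b ∧ IsIso b := by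
  obtain ⟨Y', b, hb⟩ : ∃ (Y' : Scheme.{u}) (b : Y' ⟶ Y), BlowUp.IsBlowUp b (⊤ : Y.IdealSheafData) :=
    ⟨_, _, BlowUpExist.ChartIdx.isBlowUp_blowUpHom⟩
  have hft : BlowUp.IsFiniteTypeIdeal (⊤ : Y.IdealSheafData) := EffCartier.fg_ideal EffCartier.isEffCartierIdeal_top
  refine ⟨Y', b, Groth.Agent.S8910.result _ hft b hb, BlowUpExist.isProper hft hb, ?_⟩
  obtain ⟨s, hs, -⟩ := hb.2 Y (𝟙 Y) (by rw [Scheme.IdealSheafData.comap_id]; exact EffCartier.isEffCartierIdeal_top)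
  exact ⟨s, (hb.2 Y' b hb.1).unique (by rw [Category.assoc, hs, Category.comp_id]) (Category.id_comp b), hs⟩

theorem exists_extend [IsNoetherian Y] (j : U ⟶ Y) [IsOpenImmersion j] [IsSchemeTheoreticallyDominant j]
    {ι : Type v} (s : Finset ι) (E : ι → U.Modules) (hE : ∀ i, FlatMod.IsFinLocFree (E i)) :
    ∃ (Y' : Scheme.{u}) (b : Y' ⟶ Y) (j' : U ⟶ Y'), IsOpenImmersion j' ∧ IsSchemeTheoreticallyDominant j' ∧
      j' ≫ b = j ∧ RelProj.IsProjective b ∧ IsProper b ∧ (∀ y, b y ∈ Set.range j → y ∈ Set.range j') ∧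
      ∀ i ∈ s, ∃ E' : Y'.Modules, FlatMod.IsFinLocFree E' ∧
        Nonempty ((Scheme.Modules.pullback j').obj E' ≅ E i) := by
  classical
  induction s using Finset.induction_on with
  | empty =>
    obtain ⟨Y', b, hb, hp, hiso⟩ := isProjective_id Y
    refine ⟨Y', b, j ≫ inv b, inferInstance, inferInstance, by simp, hb, hp, fun y ⟨x, hx⟩ => ⟨x, ?_⟩, by simp⟩
    show (j ≫ inv b) x = y
    rw [Scheme.Hom.comp_apply, hx, ← Scheme.Hom.comp_apply, IsIso.hom_inv_id]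
    rfl
  | insert a s _ ih =>
    obtain ⟨Y₁, b₁, j₁, hj₁, hd₁, hjb₁, hP₁, hp₁, hr₁, hs⟩ := ih
    haveI : IsLocallyNoetherian Y₁ := LocallyOfFiniteType.isLocallyNoetherian b₁
    haveI := QuasiCompact.compactSpace_of_compactSpace b₁
    haveI : IsNoetherian Y₁ := ⟨⟩
    obtain ⟨Y₂, b₂, j₂, E', hj₂, hd₂, hjb₂, hP₂, hp₂, hr₂, hE', hiso⟩ := exists_extend_one j₁ (E a) (hE a)
    refine ⟨Y₂, b₂ ≫ b₁, j₂, hj₂, hd₂, by rw [reassoc_of% hjb₂, hjb₁], Groth.Agent.S9708.result b₂ b₁ hP₂ hP₁,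
      inferInstance, fun y hy => hr₂ y (hr₁ _ hy), fun i hi => ?_⟩
    rcases Finset.mem_insert.1 hi with rfl | hi
    · exact ⟨E', hE', hiso⟩
    · obtain ⟨E₁, hE₁, ⟨e₁⟩⟩ := hs i hi
      exact ⟨(Scheme.Modules.pullback b₂).obj E₁, M2.isFinLocFree_pullback b₂ hE₁,
        ⟨(Scheme.Modules.pullbackComp j₂ b₂).app E₁ ≪≫ (Scheme.Modules.pullbackCongr hjb₂).app E₁ ≪≫ e₁⟩⟩

end Groth.Agent.FinLocExt4
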