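import Groth.Agent.Lib.AdmOpen4.Kill
import Groth.Agent.Lib.FitGen26.Basic
import Groth.Agent.Lib.ModM1.Pull
import Groth.Agent.Lib.ModM1.QcohCrit
import Groth.Agent.Lib.ModM1.Exact
import Groth.Prelude.Def_BlowUp2

/-!
The quotient of a module by the sections killed by powers of an ideal of finite type.
-/

set_option autoImplicit false
universe u

set_option backward.isDefEq.respectTransparency false
set_option backward.isDefEq.respectTransparency.types false

open CategoryTheory CategoryTheory.Limits AlgebraicGeometry TopologicalSpace Opposite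

namespace Groth.Agent.FinLocExt4

variable {X : Scheme.{u}}

theorem unit_app_eq_zero_iff (M : X.Modules) (P V : X.Opens) (m : Γ(M, V)) :
    ((Scheme.Modules.restrictAdjunction P.ι).unit.app M).app V m = 0 ↔
      M1.mres M (show P.ι ''ᵁ P.ι ⁻¹ᵁ V ≤ V by rintro _ ⟨z, hz, rfl⟩; exact hz) m = 0 :=
  Iff.rfl

theorem exists_quot_torsion (E : X.IdealSheafData) (hE : BlowUp.IsFiniteTypeIdeal E) (M : X.Modules)
    (hM : Coh.IsQCoh M) :
    ∃ (G : X.Modules) (π : M ⟶ G), Epi π ∧
      IsIso ((Scheme.Modules.restrictFunctor (EffCartier.cmpl E).ι).map π) ∧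
      ∀ (V : X.affineOpens) (m : Γ(M, V.1)), π.app V.1 m = 0 ↔ BlowUp.KilledByPowerNear E M V m := by
  classical
  let P := EffCartier.cmpl E
  let R := Scheme.Modules.restrictFunctor P.ι
  let η := (Scheme.Modules.restrictAdjunction P.ι).unit.app M
  refine ⟨Abelian.image η, Abelian.factorThruImage η, inferInstance, ?_, fun V m => ?_⟩
  · haveI hi : IsIso (R.map η) := by
      have h := (Scheme.Modules.restrictAdjunction P.ι).left_triangle_components M
      haveI : IsIso (R.map η ≫ (Scheme.Modules.restrictAdjunction P.ι).counit.app (R.obj M)) :=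
        h.symm ▸ inferInstance
      exact IsIso.of_isIso_comp_right (R.map η) ((Scheme.Modules.restrictAdjunction P.ι).counit.app (R.obj M))
    haveI : Mono (R.map (Abelian.factorThruImage η)) := by
      haveI : Mono (R.map (Abelian.factorThruImage η) ≫ R.map (Abelian.image.ι η)) := by
        rw [← R.map_comp, Abelian.image.fac]; infer_instance
      exact mono_of_mono _ (R.map (Abelian.image.ι η))
    haveI : Epi (R.map (Abelian.factorThruImage η)) := R.map_epi _
    exact isIso_of_mono_of_epi _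
  have h1 : (Abelian.factorThruImage η).app V.1 m = 0 ↔ η.app V.1 m = 0 := by
    have hf : η.app V.1 m = (Abelian.image.ι η).app V.1 ((Abelian.factorThruImage η).app V.1 m) := by
      conv_lhs => rw [← Abelian.image.fac η]
      rfl
    rw [hf]
    exact ⟨fun h => by rw [h, map_zero], fun h => M1.app_injective (Abelian.image.ι η) V.1 (h.trans (map_zero _).symm)⟩
  refine h1.trans ((unit_app_eq_zero_iff M P V.1 m).trans ?_)
  have hmem : ∀ x ∈ V.1, x ∈ P ↔ ∃ e ∈ E.ideal V, x ∈ X.basicOpen e := fun x hx => by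
    show x ∉ (E.support : Set X) ↔ _
    rw [SetLike.mem_coe, Scheme.IdealSheafData.mem_support_iff_of_mem hx, Scheme.mem_zeroLocus_iff]
    simp only [not_forall, not_not, exists_prop, SetLike.mem_coe]
  haveI : M.IsQuasicoherent := hM
  constructor
  · intro h
    have key : ∀ e ∈ E.ideal V, ∃ n, e ^ n • m = 0 := by
      intro e he
      have hsub : X.basicOpen e ≤ P.ι ''ᵁ P.ι ⁻¹ᵁ V.1 := fun x hx =>
        ⟨⟨x, (hmem x (X.basicOpen_le e hx)).2 ⟨e, he, hx⟩⟩, X.basicOpen_le e hx, rfl⟩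
      refine M1.exists_pow_smul_eq_zero_affine M V.2 e m ?_
      rw [← M1.mres_mres M (show P.ι ''ᵁ P.ι ⁻¹ᵁ V.1 ≤ V.1 by rintro _ ⟨z, hz, rfl⟩; exact hz) hsub m, h, map_zero]
    obtain ⟨N, hN⟩ := Ideal.exists_pow_le_of_le_radical_of_fg
      (J := Submodule.colon (⊥ : Submodule Γ(X, V.1) Γ(M, V.1)) {m}) (I := E.ideal V) (fun e he => by
      obtain ⟨n, hn⟩ := key e he
      exact ⟨n, by simpa [Submodule.mem_colon_singleton] using hn⟩) (hE V)
    refine ⟨N, fun b hb => ?_⟩
    rw [Scheme.IdealSheafData.ideal_pow, Pi.pow_apply] at hb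
    have h2 := hN hb
    rwa [Submodule.mem_colon_singleton, Submodule.mem_bot] at h2
  · rintro ⟨N, hN⟩
    refine TopCat.Presheaf.section_ext ⟨M.presheaf, M.isSheaf⟩ _ _ 0 fun x hx => ?_
    obtain ⟨z, hz, rfl⟩ := hx
    obtain ⟨e, he, hze⟩ := (hmem _ hz).1 z.2
    have h0 : e ^ N • m = 0 :=
      hN (e ^ N) (by rw [Scheme.IdealSheafData.ideal_pow, Pi.pow_apply]; exact Ideal.pow_mem_pow he N)
    have hzV : P.ι z ∈ P.ι ''ᵁ P.ι ⁻¹ᵁ V.1 := ⟨z, hz, rfl⟩
    show M.presheaf.germ (P.ι ''ᵁ P.ι ⁻¹ᵁ V.1) (P.ι z) hzV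
        (M1.mres M (show P.ι ''ᵁ P.ι ⁻¹ᵁ V.1 ≤ V.1 by rintro _ ⟨z, hz, rfl⟩; exact hz) m) =
      M.presheaf.germ (P.ι ''ᵁ P.ι ⁻¹ᵁ V.1) (P.ι z) hzV 0
    rw [map_zero, M1.germ_mres M _ hzV]
    have hu : IsUnit (X.presheaf.germ V.1 (P.ι z) hz (e ^ N)) := by
      rw [map_pow]; exact ((X.mem_basicOpen e _ hz).1 hze).pow N
    have h3 := congrArg (M.presheaf.germ V.1 (P.ι z) hz) h0
    rw [map_zero, RH26.gsmul] at h3
    exact hu.smul_eq_zero.1 h3

end Groth.Agent.FinLocExt4
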