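import Groth.Agent.Lib.StrictTf14.Apps
import Groth.Agent.Lib.Nagata4.Basics
import Groth.Agent.Lib.ModM1.LocFree
import Groth.Agent.Lib.TensorMod.Invertible
import Groth.Agent.Lib.AdmOpen4.Main

/-!
The rank loci of a finite locally free module, and ideals vanishing near a scheme-theoretically dense open.
-/

set_option autoImplicit false
universe u

set_option backward.isDefEq.respectTransparency false
set_option backward.isDefEq.respectTransparency.types false

open CategoryTheory CategoryTheory.Limits AlgebraicGeometry TopologicalSpace Opposite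

namespace Groth.Agent.FinLocExt4

variable {U Y : Scheme.{u}}

theorem fit_on (E : U.Modules) (hE : Coh.IsQCoh E) (hT : CohB1.IsFT E) (W : U.Opens) (r : ℕ)
    (e : Nonempty (E.restrict W.ι ≅ FlatMod.freeMod (↑W) r)) (i : ℕ) :
    (i < r → (Fitt.sheafIdeal E i).comap W.ι = ⊥) ∧ (r ≤ i → (Fitt.sheafIdeal E i).comap W.ι = ⊤) := by
  obtain ⟨e⟩ := e
  refine StrictTf14.comap_eq_of_rank hE hT W (fun x => ⟨⊤, trivial, ⟨?_⟩⟩) i
  exact (Scheme.Modules.restrictFunctor (⊤ : (W : Scheme.{u}).Opens).ι).mapIso e ≪≫ M2.freeModRestrictIso _ r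

/-- Ranks are unique. -/
theorem rank_unique (E : U.Modules) (hE : Coh.IsQCoh E) (hT : CohB1.IsFT E) {W₁ W₂ : U.Opens} {n m : ℕ}
    (e₁ : Nonempty (E.restrict W₁.ι ≅ FlatMod.freeMod (↑W₁) n))
    (e₂ : Nonempty (E.restrict W₂.ι ≅ FlatMod.freeMod (↑W₂) m)) {x : U} (h₁ : x ∈ W₁) (h₂ : x ∈ W₂) : n = m := by
  have key : ∀ {A B : U.Opens} {a c : ℕ}, Nonempty (E.restrict A.ι ≅ FlatMod.freeMod (↑A) a) →
      Nonempty (E.restrict B.ι ≅ FlatMod.freeMod (↑B) c) → x ∈ A → x ∈ B → a < c → False := by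
    intro A B a c eA eB hA hB hac
    have t := (fit_on E hE hT A a eA a).2 le_rfl
    have b := (fit_on E hE hT B c eB a).1 hac
    have h1 : x ∈ ((Fitt.sheafIdeal E a).support : Set U) := by
      have : (⟨x, hB⟩ : B) ∈ (((Fitt.sheafIdeal E a).comap B.ι).support : Set (B : Scheme.{u})) := by
        rw [b, Scheme.IdealSheafData.support_bot]; trivial
      rwa [Scheme.IdealSheafData.support_comap] at this
    exact EffCartier.not_mem_support_of_comap_eq_top t ⟨x, hA⟩ h1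
  rcases lt_trichotomy n m with h | h | h
  exacts [(key e₁ e₂ h₁ h₂ h).elim, h, (key e₂ e₁ h₂ h₁ h).elim]

/-- The locus of rank `r`. -/
def rankLocus (E : U.Modules) (r : ℕ) : U.Opens :=
  ⨆ W : {W : U.Opens // Nonempty (E.restrict W.ι ≅ FlatMod.freeMod (↑W) r)}, W.1

theorem mem_rankLocus {E : U.Modules} {r : ℕ} {x : U} :
    x ∈ rankLocus E r ↔ ∃ W : U.Opens, x ∈ W ∧ Nonempty (E.restrict W.ι ≅ FlatMod.freeMod (↑W) r) := by
  simp only [rankLocus, Opens.mem_iSup]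
  exact ⟨fun ⟨W, hW⟩ => ⟨W.1, hW, W.2⟩, fun ⟨W, hW, e⟩ => ⟨⟨W, e⟩, hW⟩⟩

theorem eq_of_mem_rankLocus (E : U.Modules) (hE : Coh.IsQCoh E) (hT : CohB1.IsFT E) {x : U} {r s : ℕ}
    (hr : x ∈ rankLocus E r) (hs : x ∈ rankLocus E s) : r = s := by
  obtain ⟨A, hA, eA⟩ := mem_rankLocus.1 hr
  obtain ⟨B, hB, eB⟩ := mem_rankLocus.1 hs
  exact rank_unique E hE hT eA eB hA hB

theorem exists_bound (E : U.Modules) (hE : FlatMod.IsFinLocFree E) [CompactSpace U] :
    ∃ R : ℕ, ∀ x : U, ∃ r : Fin R, x ∈ rankLocus E r := by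
  classical
  choose W n hW e using hE
  obtain ⟨t, ht⟩ := isCompact_univ.elim_finite_subcover (fun x : U => (W x : Set U)) (fun x => (W x).2)
    (fun x _ => Set.mem_iUnion.2 ⟨x, hW x⟩)
  refine ⟨t.sup n + 1, fun x => ?_⟩
  obtain ⟨y, hy, hxy⟩ := Set.mem_iUnion₂.1 (ht (Set.mem_univ x))
  exact ⟨⟨n y, Nat.lt_succ_of_le (Finset.le_sup hy)⟩, mem_rankLocus.2 ⟨W y, hxy, e y⟩⟩

/-- An ideal killed near every point of a dominant open over an affine open is zero there. -/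
theorem ideal_eq_bot (k : U ⟶ Y) [IsOpenImmersion k] [IsSchemeTheoreticallyDominant k] [QuasiCompact k]
    (K : Y.IdealSheafData) (V : Y.affineOpens)
    (h : ∀ x : U, k x ∈ V.1 → ∃ W : U.Opens, x ∈ W ∧ K.comap (W.ι ≫ k) = ⊥) : K.ideal V = ⊥ := by
  refine le_antisymm (fun z hz => (Submodule.mem_bot _).2 (k.app_injective V.1 ?_)) bot_le
  rw [map_zero]
  refine TopCat.Presheaf.section_ext U.sheaf _ _ 0 fun x hx => ?_
  obtain ⟨W, hxW, hW⟩ := h x hx
  have hP : K.comap (W.ι ≫ k).opensRange.ι = ⊥ := by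
    rw [← Scheme.Hom.isoOpensRange_inv_comp (W.ι ≫ k), Scheme.IdealSheafData.comap_comp, hW,
      Scheme.IdealSheafData.comap_bot]
  have h0 := StrictTf14.germ_eq_zero_of_comap_eq_bot K hP V.2 hz (show k x ∈ (W.ι ≫ k).opensRange from ⟨⟨x, hxW⟩, rfl⟩) hx
  show U.presheaf.germ _ x hx (k.app V.1 z) = U.presheaf.germ _ x hx 0
  rw [map_zero, ← Scheme.Hom.germ_stalkMap_apply k V.1 x hx z, h0, map_zero]

theorem comap_ker_self {X : Scheme.{u}} (f : X ⟶ Y) : f.ker.comap f = ⊥ :=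
  le_bot_iff.1 (Scheme.IdealSheafData.le_map_iff_comap_le.1 (by rw [Scheme.IdealSheafData.map_bot]))

theorem comap_ker_le {X Y' : Scheme.{u}} (f : X ⟶ Y') (b : Y' ⟶ Y) : (f ≫ b).ker.comap b ≤ f.ker :=
  Scheme.IdealSheafData.le_map_iff_comap_le.1 (by rw [Scheme.Hom.ker_comp])

theorem prod_ideal {ι : Type*} (s : Finset ι) (K : ι → Y.IdealSheafData) (V : Y.affineOpens) :
    (∏ i ∈ s, K i).ideal V = ∏ i ∈ s, (K i).ideal V := by
  classical
  induction s using Finset.induction with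
  | empty => simp [Scheme.IdealSheafData.one_eq_top]
  | insert a s ha ih => rw [Finset.prod_insert ha, Finset.prod_insert ha, Scheme.IdealSheafData.ideal_mul, Pi.mul_apply, ih]

/-- An open immersion avoiding the centre lifts dominantly. -/
theorem exists_lift_std {Y' : Scheme.{u}} (k : U ⟶ Y) [IsOpenImmersion k] [IsSchemeTheoreticallyDominant k]
    [QuasiCompact k] {C : Y.IdealSheafData} {b : Y' ⟶ Y} (hb : BlowUp.IsBlowUp b C)
    (hd : Disjoint (C.support : Set Y) (k.opensRange : Set Y)) :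
    ∃ (k' : U ⟶ Y') (_ : IsOpenImmersion k') (_ : IsSchemeTheoreticallyDominant k'), k' ≫ b = k ∧
      ∀ y, b y ∈ Set.range k → y ∈ Set.range k' := by
  obtain ⟨k', hk', hk'b, hk'r⟩ := Nagata4.exists_lift k hb hd
  let A := EffCartier.cmpl C
  have hA : ∀ x, k x ∈ A := fun x hx => Set.disjoint_left.1 hd hx ⟨x, rfl⟩
  obtain ⟨l₀, hl₀, hl₀d⟩ := Nagata4.exists_lift_dominant k A hA
  haveI := EffCartier.isIso_blowUp_restrict hb
  haveI : IsSchemeTheoreticallyDominant (b ⁻¹ᵁ A).ι := by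
    have h := EffCartier.dominant_cmpl hb.1
    rwa [← BlowUp26.preimage_cmpl_eq] at h
  have heff : BlowUp.IsEffCartierIdeal (C.comap k) := by
    rw [EffCartier.comap_eq_top _ _ fun x hx => Set.disjoint_left.1 hd hx ⟨x, rfl⟩]
    exact EffCartier.isEffCartierIdeal_top
  have he : (l₀ ≫ inv (b ∣_ A)) ≫ (b ⁻¹ᵁ A).ι = k' := (hb.2 U k heff).unique (by
    simp only [Category.assoc]
    rw [← morphismRestrict_ι, IsIso.inv_hom_id_assoc, hl₀]) hk'b
  exact ⟨k', hk', he ▸ inferInstance, hk'b, fun y hy => (SetLike.ext_iff.1 hk'r y).2 hy⟩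

end Groth.Agent.FinLocExt4
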