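import Groth.Agent.Lib.FinLocExt4.Core
import Groth.Agent.Lib.FinLocExt4.Quot
import Groth.Agent.Lib.FinLocExt4.Ranks
import Groth.Agent.Lib.KCoh4.Loc
import Groth.Agent.Lib.AdmBlowUp4.Separate
import Groth.Agent.Lib.Nagata4.Basics
import Groth.Agent.Lib.CohFound.ProjQuot
import Groth.Agent.S8910

/-!
Extending one finite locally free module after an admissible blow-up.
-/

set_option autoImplicit false
universe u

set_option backward.isDefEq.respectTransparency false
set_option backward.isDefEq.respectTransparency.types false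

open CategoryTheory CategoryTheory.Limits AlgebraicGeometry TopologicalSpace Opposite

namespace Groth.Agent.FinLocExt4

variable {U Y : Scheme.{u}}

section
variable (j : U ⟶ Y) (E : U.Modules) (F : Y.Modules) {R : ℕ}

/-- The centre of index `r`. -/
noncomputable def Kr (r : ℕ) : Y.IdealSheafData :=
  Fitt.sheafIdeal F r ⊔ ((rankLocus E r).ι ≫ j).ker

/-- The centre separating two rank loci. -/
noncomputable def Srs (r s : ℕ) : Y.IdealSheafData :=
  ((rankLocus E r).ι ≫ j).ker ⊔ ((rankLocus E s).ι ≫ j).ker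

variable (R) in
/-- The centre. -/
noncomputable def centre : Y.IdealSheafData :=
  (∏ r : Fin R, Kr j E F r) *
    ∏ p ∈ (Finset.univ : Finset (Fin R × Fin R)).filter (fun p => p.1 ≠ p.2), Srs j E p.1 p.2

end

variable (j : U ⟶ Y) [IsOpenImmersion j] (E : U.Modules) (F : Y.Modules)

theorem isQCoh_ft (hE : FlatMod.IsFinLocFree E) : Coh.IsQCoh E ∧ CohB1.IsFT E :=
  ⟨M2.isQCoh_of_isFinLocFree hE, M1.isFP_isFT (M1.isFP_of_isFinLocFree hE)⟩

theorem fit_comap_on (hFq : Coh.IsQCoh F) (hFt : CohB1.IsFT F) (hEq : Coh.IsQCoh E) (hEt : CohB1.IsFT E)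
    (e : (Scheme.Modules.pullback j).obj F ≅ E) (i : ℕ) :
    (Fitt.sheafIdeal F i).comap j = Fitt.sheafIdeal E i := by
  rw [Fitting26.comap_eq j hFq hFt i]
  refine EffCartier.eq_of_forall_exists fun x => ?_
  obtain ⟨_, ⟨V, hV, rfl⟩, hxV, -⟩ := U.isBasis_affineOpens.exists_subset_of_mem_open (Set.mem_univ x) isOpen_univ
  refine ⟨⟨V, hV⟩, hxV, ?_⟩
  rw [Fitting26.sheafIdeal_ideal (M1.isQCoh_pullback j hFq) (M1.isFT_pullback j hFt) i ⟨V, hV⟩,
    Fitting26.sheafIdeal_ideal hEq hEt i ⟨V, hV⟩]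
  haveI := M1.finite_sections (M1.isQCoh_pullback j hFq) (M1.isFT_pullback j hFt) hV
  let l : Γ((Scheme.Modules.pullback j).obj F, V) ≃ₗ[Γ(U, V)] Γ(E, V) :=
    { toFun := e.hom.app V
      map_add' := map_add _
      map_smul' := fun a x => Scheme.Modules.Hom.app_smul _ _ _
      invFun := e.inv.app V
      left_inv := fun x => by
        show (e.hom ≫ e.inv).app V x = x
        rw [e.hom_inv_id]; rfl
      right_inv := fun x => by
        show (e.inv ≫ e.hom).app V x = x
        rw [e.inv_hom_id]; rfl }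
  exact FittingLib.ideal_congr l i

theorem not_mem_support_ker (hEq : Coh.IsQCoh E) (hEt : CohB1.IsFT E) [CompactSpace U] [IsLocallyNoetherian U]
    [QuasiSeparatedSpace Y] {R : ℕ} (hR : ∀ x : U, ∃ r : Fin R, x ∈ rankLocus E r) (r : ℕ) (x : U)
    (hx : j x ∈ ((((rankLocus E r).ι ≫ j).ker).support : Set Y)) : x ∈ rankLocus E r := by
  haveI : IsNoetherian U := ⟨⟩
  haveI : CompactSpace (rankLocus E r).toScheme :=
    isCompact_iff_compactSpace.1 (NoetherianSpace.isCompact (rankLocus E r : Set U))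
  rw [Scheme.Hom.support_ker] at hx
  obtain ⟨s, hs⟩ := hR x
  let O : Set Y := j '' (rankLocus E s : Set U)
  obtain ⟨y, ⟨z, hz, hzy⟩, w, hwy⟩ := mem_closure_iff.1 hx O
    (j.isOpenEmbedding.isOpenMap _ (rankLocus E s).2) ⟨x, hs, rfl⟩
  have hzw : z = w.1 := j.isOpenEmbedding.injective (hzy.trans hwy.symm)
  have := eq_of_mem_rankLocus E hEq hEt (hzw ▸ hz : w.1 ∈ rankLocus E s) w.2
  exact this ▸ hs

theorem isAdmissible_centre [IsNoetherian Y] (hFq : Coh.IsQCoh F) (hFt : CohB1.IsFT F) (hEq : Coh.IsQCoh E)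
    (hEt : CohB1.IsFT E) (e : (Scheme.Modules.pullback j).obj F ≅ E) [CompactSpace U] [IsLocallyNoetherian U] {R : ℕ}
    (hR : ∀ x : U, ∃ r : Fin R, x ∈ rankLocus E r) :
    BlowUp.IsAdmissibleFor j.opensRange (centre j E F R) := by
  refine AdmOpen4.isAdmissibleFor_mul (AdmOpen4.isAdmissibleFor_prod _ _ fun r _ =>
      ⟨Nagata4.isFiniteTypeIdeal_of_noetherian _, Set.disjoint_left.2 ?_⟩)
    (AdmOpen4.isAdmissibleFor_prod _ _ fun p hp =>
      ⟨Nagata4.isFiniteTypeIdeal_of_noetherian _, Set.disjoint_left.2 ?_⟩)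
  · rintro _ hy ⟨x, rfl⟩
    have h1 := Scheme.IdealSheafData.support_antitone le_sup_left hy
    have h2 := not_mem_support_ker j E hEq hEt hR r x (Scheme.IdealSheafData.support_antitone le_sup_right hy)
    obtain ⟨W, hxW, eW⟩ := mem_rankLocus.1 h2
    refine EffCartier.not_mem_support_of_comap_eq_top ((fit_on E hEq hEt W r eW r).2 le_rfl) ⟨x, hxW⟩ ?_
    have : x ∈ (((Fitt.sheafIdeal F r).comap j).support : Set U) := by
      rw [Scheme.IdealSheafData.support_comap]; exact h1
    rwa [fit_comap_on j E F hFq hFt hEq hEt e r] at this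
  · rintro _ hy ⟨x, rfl⟩
    have h1 := not_mem_support_ker j E hEq hEt hR p.1 x (Scheme.IdealSheafData.support_antitone le_sup_left hy)
    have h2 := not_mem_support_ker j E hEq hEt hR p.2 x (Scheme.IdealSheafData.support_antitone le_sup_right hy)
    exact (Finset.mem_filter.1 hp).2 (Fin.ext (eq_of_mem_rankLocus E hEq hEt h1 h2))

theorem comap_dvd {Y' : Scheme.{u}} (b : Y' ⟶ Y) {A B : Y.IdealSheafData} (h : A ∣ B)
    (hB : BlowUp.IsEffCartierIdeal (B.comap b)) : BlowUp.IsEffCartierIdeal (A.comap b) :=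
  AdmOpen4.isEff_of_dvd h hB

/-- The glued exceptional ideal on the blow-up. -/
noncomputable def excId {Y' : Scheme.{u}} (j' : U ⟶ Y') (M : Y'.Modules) (R : ℕ) : Y'.IdealSheafData :=
  ∏ r : Fin R, (Fitt.sheafIdeal M r ⊔ ((rankLocus E r).ι ≫ j').ker)

/-- The local structure on the blow-up. -/
theorem exists_local {Y' : Scheme.{u}} [IsNoetherian Y] [IsNoetherian Y'] (b : Y' ⟶ Y) (j' : U ⟶ Y') [IsOpenImmersion j']
    [IsSchemeTheoreticallyDominant j'] (hb : j' ≫ b = j) [CompactSpace U] [IsLocallyNoetherian U]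
    (hFq : Coh.IsQCoh F) (hFt : CohB1.IsFT F) (hEq : Coh.IsQCoh E) (hEt : CohB1.IsFT E)
    (e : (Scheme.Modules.pullback j).obj F ≅ E) {R : ℕ} (hR : ∀ x : U, ∃ r : Fin R, x ∈ rankLocus E r)
    (heff : BlowUp.IsEffCartierIdeal ((centre j E F R).comap b)) (y : Y') :
    ∃ (r : Fin R) (V : Y'.affineOpens) (f : Γ(Y', V.1)), y ∈ V.1 ∧ f ∈ nonZeroDivisors Γ(Y', V.1) ∧
      (excId E j' ((Scheme.Modules.pullback b).obj F) R).ideal V = Ideal.span {f} ∧
      Fitt.ideal Γ(Y', V.1) Γ((Scheme.Modules.pullback b).obj F, V.1) r = Ideal.span {f} ∧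
      ((r : ℕ) = 0 ∨ Fitt.ideal Γ(Y', V.1) Γ((Scheme.Modules.pullback b).obj F, V.1) (r - 1) = ⊥) := by
  classical
  haveI : IsNoetherian U := ⟨⟩
  haveI : QuasiCompact j' := inferInstance
  haveI hcU : ∀ r, CompactSpace (rankLocus E r).toScheme := fun r =>
    isCompact_iff_compactSpace.1 (NoetherianSpace.isCompact (rankLocus E r : Set U))
  let Cl : Fin R → Set Y' := fun r => closure (Set.range ((rankLocus E r).ι ≫ j'))
  have hsupp : ∀ r : Fin R, ((((rankLocus E r).ι ≫ j').ker).support : Set Y') = Cl r := fun r => by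
    rw [Scheme.Hom.support_ker]
  have hval : ∀ x, b (j' x) = j x := fun x => by rw [← Scheme.Hom.comp_apply, hb]
  have hA : ∀ (r : ℕ) (x : U), x ∈ rankLocus E r →
      j' x ∈ (((((rankLocus E r).ι ≫ j).ker).comap b).support : Set Y') := fun r x hx => by
    rw [Scheme.IdealSheafData.support_comap]
    show b (j' x) ∈ ((((rankLocus E r).ι ≫ j).ker).support : Set Y)
    rw [hval, Scheme.Hom.support_ker]
    exact subset_closure ⟨⟨x, hx⟩, rfl⟩
  have hdisj : ∀ r s : Fin R, r ≠ s → Disjoint (Cl r) (Cl s) := by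
    intro r s hrs
    have h := comap_dvd b (dvd_mul_of_dvd_right (Finset.dvd_prod_of_mem
      (fun p : Fin R × Fin R => Srs j E p.1 p.2)
      (show (r, s) ∈ Finset.univ.filter (fun p : Fin R × Fin R => p.1 ≠ p.2) by simp [hrs])) _) heff
    simp only [Srs, Scheme.IdealSheafData.comap_sup] at h
    refine AdmBlowUp4.disjoint_closure h ?_ ?_ ?_ ?_
    · rintro _ ⟨x, rfl⟩; exact hA r x.1 x.2
    · rintro _ ⟨x, rfl⟩; exact hA s x.1 x.2
    all_goals
      refine Set.disjoint_left.2 ?_
      rintro _ ⟨x, rfl⟩ hx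
      have h1 := Scheme.IdealSheafData.support_antitone le_sup_left hx
      have h2 := Scheme.IdealSheafData.support_antitone le_sup_right hx
      rw [Scheme.IdealSheafData.support_comap] at h1 h2
      change b (j' x.1) ∈ ((((rankLocus E r).ι ≫ j).ker).support : Set Y) at h1
      change b (j' x.1) ∈ ((((rankLocus E s).ι ≫ j).ker).support : Set Y) at h2
      rw [hval] at h1 h2
      exact hrs (Fin.ext (eq_of_mem_rankLocus E hEq hEt (not_mem_support_ker j E hEq hEt hR r x.1 h1)
        (not_mem_support_ker j E hEq hEt hR s x.1 h2)))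
  have hcov : ∀ z : Y', ∃ r, z ∈ Cl r := by
    intro z
    have hcl : IsClosed (⋃ r, Cl r) := isClosed_iUnion_of_finite fun r => isClosed_closure
    have h : closure (Set.range j') ⊆ ⋃ r, Cl r := closure_minimal (by
      rintro _ ⟨x, rfl⟩
      obtain ⟨r, hr⟩ := hR x
      exact Set.mem_iUnion.2 ⟨r, subset_closure ⟨⟨x, hr⟩, rfl⟩⟩) hcl
    exact Set.mem_iUnion.1 (h (IsDominant.denseRange (f := j') z))
  obtain ⟨r, hr⟩ := hcov y
  let O : Y'.Opens := ⟨(⋃ s : {s : Fin R // s ≠ r}, Cl s.1)ᶜ,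
    (isClosed_iUnion_of_finite fun s => isClosed_closure).isOpen_compl⟩
  have hyO : y ∈ O := fun h => by
    obtain ⟨s, hs⟩ := Set.mem_iUnion.1 h
    exact Set.disjoint_left.1 (hdisj r s.1 s.2.symm) hr hs
  have hK := comap_dvd b (dvd_mul_of_dvd_left (Finset.dvd_prod_of_mem
    (fun s : Fin R => Kr j E F s) (Finset.mem_univ r)) _) heff
  obtain ⟨V, hyV, hVO, f, hf⟩ := EffCartier.exists_isEqn hK hyO
  have hUV : ∀ x : U, j' x ∈ V.1 → x ∈ rankLocus E r := fun x hx => by
    obtain ⟨s, hs⟩ := hR x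
    by_cases hsr : s = r
    · exact hsr ▸ hs
    · have h1 : j' x ∈ Cl s := subset_closure ⟨⟨x, hs⟩, rfl⟩
      have h2 : j' x ∈ ⋃ t : {t : Fin R // t ≠ r}, Cl t.1 := Set.mem_iUnion.2 ⟨⟨s, hsr⟩, h1⟩
      exact absurd h2 (hVO hx)
  let M := (Scheme.Modules.pullback b).obj F
  have hB : (((rankLocus E r).ι ≫ j').ker).ideal V = ⊥ :=
    ideal_eq_bot j' _ V fun x hx => ⟨rankLocus E r, hUV x hx, comap_ker_self _⟩
  have hA' : ((((rankLocus E r).ι ≫ j).ker).comap b).ideal V = ⊥ := le_bot_iff.1 (hB ▸ by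
    have := comap_ker_le ((rankLocus E r).ι ≫ j') b
    rw [Category.assoc, hb] at this
    exact this V)
  have hBs : ∀ s : Fin R, s ≠ r → (((rankLocus E s).ι ≫ j').ker).ideal V = ⊤ := fun s hs =>
    AdmOpen4.ideal_eq_top_of_disjoint _ V (by
      rw [hsupp]
      exact Set.disjoint_left.2 fun z hz hzV => hVO hzV (Set.mem_iUnion.2 ⟨⟨s, hs⟩, hz⟩))
  have hfit : Fitt.ideal Γ(Y', V.1) Γ(M, V.1) r = Ideal.span {f} := by
    rw [← Fitting26.sheafIdeal_ideal (M1.isQCoh_pullback b hFq) (M1.isFT_pullback b hFt) r V,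
      ← Fitting26.comap_eq b hFq hFt r, ← hf.ideal_eq, Kr, Scheme.IdealSheafData.comap_sup,
      Scheme.IdealSheafData.ideal_sup, Pi.sup_apply, hA', sup_bot_eq]
  refine ⟨r, V, f, hyV, hf.mem, ?_, hfit, ?_⟩
  · rw [excId, prod_ideal, Finset.prod_eq_single r]
    · rw [Scheme.IdealSheafData.ideal_sup, Pi.sup_apply, hB, sup_bot_eq,
        Fitting26.sheafIdeal_ideal (M1.isQCoh_pullback b hFq) (M1.isFT_pullback b hFt) r V, hfit]
    · intro s _ hs
      rw [Scheme.IdealSheafData.ideal_sup, Pi.sup_apply, hBs s hs, sup_top_eq, Ideal.one_eq_top]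
    · exact fun h => absurd (Finset.mem_univ r) h
  · rcases Nat.eq_zero_or_pos (r : ℕ) with h | h
    · exact Or.inl h
    refine Or.inr ?_
    rw [← Fitting26.sheafIdeal_ideal (M1.isQCoh_pullback b hFq) (M1.isFT_pullback b hFt) _ V,
      ← Fitting26.comap_eq b hFq hFt]
    refine ideal_eq_bot j' _ V fun x hx => ?_
    obtain ⟨W, hxW, eW⟩ := mem_rankLocus.1 (hUV x hx)
    refine ⟨W, hxW, ?_⟩
    rw [← Scheme.IdealSheafData.comap_comp, Category.assoc, hb, Scheme.IdealSheafData.comap_comp,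
      fit_comap_on j E F hFq hFt hEq hEt e]
    exact (fit_on E hEq hEt W r eW _).1 (by omega)

/-- A coherent extension of a finite locally free module has, after an admissible blow-up, a finite locally free
quotient inducing the same module on the open. -/
theorem exists_extend_quot [IsNoetherian Y] [IsSchemeTheoreticallyDominant j] (hE : FlatMod.IsFinLocFree E)
    (hF : Coh.IsCoh F) (e : (Scheme.Modules.pullback j).obj F ≅ E) :
    ∃ (Y' : Scheme.{u}) (b : Y' ⟶ Y) (j' : U ⟶ Y') (E' : Y'.Modules) (π : (Scheme.Modules.pullback b).obj F ⟶ E'),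
      IsOpenImmersion j' ∧ IsSchemeTheoreticallyDominant j' ∧ j' ≫ b = j ∧ RelProj.IsProjective b ∧ IsProper b ∧
      (∀ y, b y ∈ Set.range j → y ∈ Set.range j') ∧ FlatMod.IsFinLocFree E' ∧ Epi π ∧
      IsIso ((Scheme.Modules.pullback j').map π) := by
  classical
  haveI : IsLocallyNoetherian U := isLocallyNoetherian_of_isOpenImmersion j
  haveI : QuasiCompact j := inferInstance
  haveI : CompactSpace U := QuasiCompact.compactSpace_of_compactSpace j
  obtain ⟨hEq, hEt⟩ := isQCoh_ft E hE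
  obtain ⟨R, hR⟩ := exists_bound E hE
  have hadm := isAdmissible_centre j E F hF.1 hF.2 hEq hEt e hR
  obtain ⟨Y', b, hb⟩ : ∃ (Y' : Scheme.{u}) (b : Y' ⟶ Y), BlowUp.IsBlowUp b (centre j E F R) :=
    ⟨_, _, BlowUpExist.ChartIdx.isBlowUp_blowUpHom⟩
  haveI : IsProper b := BlowUpExist.isProper hadm.1 hb
  haveI : IsLocallyNoetherian Y' := LocallyOfFiniteType.isLocallyNoetherian b
  haveI := QuasiCompact.compactSpace_of_compactSpace b
  haveI : IsNoetherian Y' := ⟨⟩
  obtain ⟨j', hj', hj'd, hj'b, hj'r⟩ := exists_lift_std j hb hadm.2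
  let M := (Scheme.Modules.pullback b).obj F
  let EE := excId E j' M R
  obtain ⟨G, π, hπ, hiso, hker⟩ := exists_quot_torsion EE (Nagata4.isFiniteTypeIdeal_of_noetherian _) M
    (M1.isQCoh_pullback b hF.1)
  have hloc := exists_local j E F b j' hj'b hF.1 hF.2 hEq hEt e hR hb.1
  refine ⟨_, b, j', G, π, hj', hj'd, hj'b, Groth.Agent.S8910.result _ hadm.1 b hb, ‹_›, hj'r, fun y => ?_, hπ, ?_⟩
  · obtain ⟨r, V, f, hyV, hf0, hf, hfit, hlow⟩ := hloc y
    haveI : Epi π := hπ
    obtain ⟨D, q, hyD, -, hq⟩ := StrictTf14.exists_hom_of_fit π EE hker (M1.isQCoh_pullback b hF.1)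
      (M1.isFT_pullback b hF.2) r V.2 hfit hf0 hf hyV
    haveI := hq hlow
    exact ⟨D, r, hyD, ⟨(asIso ((M1.freeModFrIso _ r).hom ≫ q)).symm⟩⟩
  · let P := EffCartier.cmpl EE
    have hP : ∀ x : U, j' x ∈ P := by
      intro x hx
      obtain ⟨r, V, f, hxV, -, hf, hfit, -⟩ := hloc (j' x)
      obtain ⟨r', hr'⟩ := hR x
      have h2 : (EE.comap j') = ⊤ := by
        refine EffCartier.comap_eq_top _ _ fun z hz => ?_
        obtain ⟨s, hs⟩ := hR z
        obtain ⟨W, hzW, eW⟩ := mem_rankLocus.1 hs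
        have hcm : EE.comap (W.ι ≫ j') = ⊤ := by
          simp only [EE, excId]
          induction (Finset.univ : Finset (Fin R)) using Finset.induction with
          | empty =>
            rw [Finset.prod_empty, Scheme.IdealSheafData.one_eq_top, Scheme.IdealSheafData.comap_top]
          | insert a t ha ih =>
            rw [Finset.prod_insert ha, EffCartier.comap_mul, ih, ← Scheme.IdealSheafData.one_eq_top, mul_one,
              Scheme.IdealSheafData.one_eq_top, Scheme.IdealSheafData.comap_sup]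
            by_cases has : a = s
            · subst has
              rw [← Fitting26.comap_eq b hF.1 hF.2, ← Scheme.IdealSheafData.comap_comp, Category.assoc, hj'b,
                Scheme.IdealSheafData.comap_comp, fit_comap_on j E F hF.1 hF.2 hEq hEt e,
                (fit_on E hEq hEt W a eW a).2 le_rfl, top_sup_eq]
            · refine eq_top_iff.2 (le_trans ?_ le_sup_right)
              refine (EffCartier.comap_eq_top _ _ fun w hw => ?_).ge
              have : (j' ≫ b) w.1 ∈ ((((rankLocus E a).ι ≫ j).ker).support : Set Y) := by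
                have h3 : w.1 ∈ ((((((rankLocus E a).ι ≫ j).ker).comap b).comap j').support : Set U) := by
                  have h4 := Scheme.IdealSheafData.support_antitone
                    (show ((((rankLocus E a).ι ≫ j).ker).comap b) ≤ ((rankLocus E a).ι ≫ j').ker by
                      have := comap_ker_le ((rankLocus E a).ι ≫ j') b
                      rwa [Category.assoc, hj'b] at this) hw
                  rw [Scheme.IdealSheafData.support_comap]
                  exact h4
                rw [← Scheme.IdealSheafData.comap_comp, Scheme.IdealSheafData.support_comap] at h3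
                exact h3
              rw [hj'b] at this
              exact has (Fin.ext (eq_of_mem_rankLocus E hEq hEt (not_mem_support_ker j E hEq hEt hR a w.1 this)
                (mem_rankLocus.2 ⟨W, w.2, eW⟩)))
        exact EffCartier.not_mem_support_of_comap_eq_top hcm ⟨z, hzW⟩ hz
      exact EffCartier.not_mem_support_of_comap_eq_top h2 x hx
    let l := IsOpenImmersion.lift P.ι j' (by
      rintro _ ⟨x, rfl⟩; rw [Scheme.Opens.range_ι]; exact hP x)
    have hl : l ≫ P.ι = j' := IsOpenImmersion.lift_fac _ _ _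
    haveI : IsIso ((Scheme.Modules.pullback P.ι).map π) :=
      (NatIso.isIso_map_iff (Scheme.Modules.restrictFunctorIsoPullback P.ι) π).1 hiso
    have h1 : IsIso ((Scheme.Modules.pullback (l ≫ P.ι)).map π) :=
      (NatIso.isIso_map_iff (Scheme.Modules.pullbackComp l P.ι) π).1
        (inferInstanceAs (IsIso ((Scheme.Modules.pullback l).map ((Scheme.Modules.pullback P.ι).map π))))
    exact (NatIso.isIso_map_iff (Scheme.Modules.pullbackCongr hl) π).1 h1

/-- One finite locally free module extends after an admissible blow-up. -/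
theorem exists_extend_one [IsNoetherian Y] [IsSchemeTheoreticallyDominant j] (hE : FlatMod.IsFinLocFree E) :
    ∃ (Y' : Scheme.{u}) (b : Y' ⟶ Y) (j' : U ⟶ Y') (E' : Y'.Modules), IsOpenImmersion j' ∧
      IsSchemeTheoreticallyDominant j' ∧ j' ≫ b = j ∧ RelProj.IsProjective b ∧ IsProper b ∧
      (∀ y, b y ∈ Set.range j → y ∈ Set.range j') ∧ FlatMod.IsFinLocFree E' ∧
      Nonempty ((Scheme.Modules.pullback j').obj E' ≅ E) := by
  haveI : IsLocallyNoetherian U := isLocallyNoetherian_of_isOpenImmersion j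
  haveI : CompactSpace U := QuasiCompact.compactSpace_of_compactSpace j
  obtain ⟨F, α, hF, hα⟩ := KCoh4.exists_ext j (CohFound.isCoh_of_isFinLocFree hE)
  haveI : IsIso ((Scheme.Modules.restrictFunctor j).map α) := hα
  let e : (Scheme.Modules.pullback j).obj F ≅ E :=
    ((Scheme.Modules.restrictFunctorIsoPullback j).app F).symm ≪≫ asIso ((Scheme.Modules.restrictFunctor j).map α) ≪≫
      asIso ((Scheme.Modules.restrictAdjunction j).counit.app E)
  obtain ⟨Y', b, j', E', π, h1, h2, h3, h4, h5, h6, h7, -, hiso⟩ := exists_extend_quot j E F hE hF e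
  exact ⟨Y', b, j', E', h1, h2, h3, h4, h5, h6, h7, ⟨(asIso ((Scheme.Modules.pullback j').map π)).symm ≪≫
    (Scheme.Modules.pullbackComp j' b).app F ≪≫ (Scheme.Modules.pullbackCongr h3).app F ≪≫ e⟩⟩

end Groth.Agent.FinLocExt4
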