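import Groth.Agent.Lib.FinLocExt4.Main
import Groth.Agent.Lib.DPerf.Top
import Groth.Agent.Lib.ModLimH13.Flat
import Groth.Agent.Lib.EffCartier.Dense

/-!
Extending a short exact sequence of finite locally free modules after a blow-up.
-/

set_option autoImplicit false
universe u

set_option backward.isDefEq.respectTransparency false
set_option backward.isDefEq.respectTransparency.types false

open CategoryTheory CategoryTheory.Limits AlgebraicGeometry TopologicalSpace Opposite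

namespace Groth.Agent.FinLocExt4

variable {U Y : Scheme.{u}}

/-- A finite locally free kernel restricts to the kernel. -/
theorem exists_ses (k : U ⟶ Y) [IsOpenImmersion k] (S : ShortComplex U.Modules) (hS : S.ShortExact)
    {A B : Y.Modules} (p : A ⟶ B) [Epi p] (hA : FlatMod.IsFinLocFree A) (hB : FlatMod.IsFinLocFree B)
    (e₂ : (Scheme.Modules.pullback k).obj A ≅ S.X₂) (e₃ : (Scheme.Modules.pullback k).obj B ≅ S.X₃)
    (hc : (Scheme.Modules.pullback k).map p ≫ e₃.hom = e₂.hom ≫ S.g) :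
    ∃ (T : ShortComplex Y.Modules), T.ShortExact ∧
      FlatMod.IsFinLocFree T.X₁ ∧ FlatMod.IsFinLocFree T.X₂ ∧ FlatMod.IsFinLocFree T.X₃ ∧
      ∃ (e₁ : (Scheme.Modules.pullback k).obj T.X₁ ≅ S.X₁) (e₂ : (Scheme.Modules.pullback k).obj T.X₂ ≅ S.X₂)
        (e₃ : (Scheme.Modules.pullback k).obj T.X₃ ≅ S.X₃),
        (Scheme.Modules.pullback k).map T.f ≫ e₂.hom = e₁.hom ≫ S.f ∧
        (Scheme.Modules.pullback k).map T.g ≫ e₃.hom = e₂.hom ≫ S.g := by
  haveI := ModLimH13.preservesFiniteLimits_pullback_of_flat k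
  haveI : PreservesFiniteColimits (Scheme.Modules.pullback k) := KFlat.Sch.preservesFiniteColimits_pullback k
  let T := ShortComplex.mk (kernel.ι p) p (kernel.condition p)
  have hT : T.ShortExact := ShortComplex.ShortExact.mk' (ShortComplex.exact_kernel p) inferInstance ‹_›
  have hT' := hT.map_of_exact (Scheme.Modules.pullback k)
  let e₁ : (Scheme.Modules.pullback k).obj T.X₁ ≅ S.X₁ :=
    IsLimit.conePointsIsoOfNatIso hT'.fIsKernel hS.fIsKernel
      (parallelPair.ext (F := parallelPair ((Scheme.Modules.pullback k).map p) 0) (G := parallelPair S.g 0)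
        e₂ e₃ hc (by simp))
  refine ⟨T, hT, DPerf.isFinLocFree_kernel _ p (kernel.condition p) hT hA hB, hA, hB, e₁, e₂, e₃, ?_, hc⟩
  have := IsLimit.conePointsIsoOfNatIso_hom_comp hT'.fIsKernel hS.fIsKernel
      (parallelPair.ext (F := parallelPair ((Scheme.Modules.pullback k).map p) 0) (G := parallelPair S.g 0)
        e₂ e₃ hc (by simp)) WalkingParallelPair.zero
  exact this.symm

/-- A map onto a module from the restriction of a coherent one extends to an epimorphism. -/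
theorem exists_quot_ext [IsNoetherian Y] (j : U ⟶ Y) [IsOpenImmersion j] {A : Y.Modules} (hA : Coh.IsCoh A)
    {B : U.Modules} (hB : Coh.IsQCoh B) (ψ : (Scheme.Modules.pullback j).obj A ⟶ B) [Epi ψ] :
    ∃ (Q : Y.Modules) (q : A ⟶ Q) (e : (Scheme.Modules.pullback j).obj Q ≅ B),
      Epi q ∧ Coh.IsCoh Q ∧ (Scheme.Modules.pullback j).map q ≫ e.hom = ψ := by
  let R := Scheme.Modules.restrictFunctor j
  let θ := Scheme.Modules.restrictFunctorIsoPullback j
  let adj := Scheme.Modules.restrictAdjunction j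
  haveI : Epi (θ.hom.app A ≫ ψ) := epi_comp _ _
  let φ := adj.homEquiv A B (θ.hom.app A ≫ ψ)
  let q := Abelian.factorThruImage φ
  let m := R.map (Abelian.image.ι φ) ≫ adj.counit.app B
  have h1 : R.map q ≫ m = θ.hom.app A ≫ ψ := by
    show R.map q ≫ R.map (Abelian.image.ι φ) ≫ adj.counit.app B = _
    rw [← Category.assoc, ← R.map_comp, Abelian.image.fac]
    exact (Adjunction.homEquiv_counit (adj := adj) A B φ).symm.trans (Equiv.symm_apply_apply _ _)
  haveI : Epi m := epi_of_epi_fac h1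
  haveI : PreservesFiniteLimits R :=
    haveI := ModLimH13.preservesFiniteLimits_pullback_of_flat j
    preservesFiniteLimits_of_natIso θ.symm
  haveI : Mono m := mono_comp _ _
  haveI : IsIso m := isIso_of_mono_of_epi m
  refine ⟨Abelian.image φ, q, (θ.app _).symm ≪≫ asIso m, inferInstance,
    KCoh4.isCoh_image hA (M1.isQCoh_push j hB) φ, ?_⟩
  have h2 : (Scheme.Modules.pullback j).map q ≫ θ.inv.app _ = θ.inv.app A ≫ R.map q := θ.inv.naturality q
  show (Scheme.Modules.pullback j).map q ≫ θ.inv.app _ ≫ m = ψ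
  rw [reassoc_of% h2, h1, Iso.inv_hom_id_app_assoc]

/-- A short exact sequence of finite locally free modules extends after a blow-up. -/
theorem exists_extend_ses [IsNoetherian Y] (j : U ⟶ Y) [IsOpenImmersion j] [IsSchemeTheoreticallyDominant j]
    (S : ShortComplex U.Modules) (hS : S.ShortExact) (h₂ : FlatMod.IsFinLocFree S.X₂)
    (h₃ : FlatMod.IsFinLocFree S.X₃) :
    ∃ (Y' : Scheme.{u}) (b : Y' ⟶ Y) (j' : U ⟶ Y'), IsOpenImmersion j' ∧ IsSchemeTheoreticallyDominant j' ∧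
      j' ≫ b = j ∧ IsProper b ∧ (∀ y, b y ∈ Set.range j → y ∈ Set.range j') ∧
      ∃ (T : ShortComplex Y'.Modules), T.ShortExact ∧
        FlatMod.IsFinLocFree T.X₁ ∧ FlatMod.IsFinLocFree T.X₂ ∧ FlatMod.IsFinLocFree T.X₃ ∧
        ∃ (e₁ : (Scheme.Modules.pullback j').obj T.X₁ ≅ S.X₁) (e₂ : (Scheme.Modules.pullback j').obj T.X₂ ≅ S.X₂)
          (e₃ : (Scheme.Modules.pullback j').obj T.X₃ ≅ S.X₃),
          (Scheme.Modules.pullback j').map T.f ≫ e₂.hom = e₁.hom ≫ S.f ∧
          (Scheme.Modules.pullback j').map T.g ≫ e₃.hom = e₂.hom ≫ S.g := by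
  haveI : IsLocallyNoetherian U := isLocallyNoetherian_of_isOpenImmersion j
  haveI : CompactSpace U := QuasiCompact.compactSpace_of_compactSpace j
  haveI : IsNoetherian U := ⟨⟩
  obtain ⟨Y₁, b₁, j₁, hj₁, hd₁, hjb₁, -, hp₁, hr₁, hs⟩ := exists_extend j ({()} : Finset Unit) (fun _ => S.X₂) (fun _ => h₂)
  obtain ⟨T₂, hT₂, ⟨e₂⟩⟩ := hs () (Finset.mem_singleton_self _)
  haveI : IsLocallyNoetherian Y₁ := LocallyOfFiniteType.isLocallyNoetherian b₁
  haveI := QuasiCompact.compactSpace_of_compactSpace b₁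
  haveI : IsNoetherian Y₁ := ⟨⟩
  haveI := hS.epi_g
  haveI : Epi (e₂.hom ≫ S.g) := epi_comp _ _
  obtain ⟨Q, q, eQ, hq, hQ, hqe⟩ := exists_quot_ext j₁ (CohFound.isCoh_of_isFinLocFree hT₂)
    (M2.isQCoh_of_isFinLocFree h₃) (e₂.hom ≫ S.g)
  obtain ⟨Y₂, b₂, j₂, T₃, π, hj₂, hd₂, hjb₂, -, hp₂, hr₂, hT₃, hπ, hiso⟩ := exists_extend_quot j₁ S.X₃ Q h₃ hQ eQ
  let p := (Scheme.Modules.pullback b₂).map q ≫ π
  haveI : PreservesFiniteColimits (Scheme.Modules.pullback b₂) := KFlat.Sch.preservesFiniteColimits_pullback b₂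
  haveI : Epi p := epi_comp _ _
  let P₂ := Scheme.Modules.pullback j₂
  let c := fun M : Y₁.Modules => (Scheme.Modules.pullbackComp j₂ b₂).app M ≪≫
    (Scheme.Modules.pullbackCongr hjb₂).app M
  let e₂' := c T₂ ≪≫ e₂
  let e₃' := (asIso (P₂.map π)).symm ≪≫ c Q ≪≫ eQ
  have hnat : P₂.map ((Scheme.Modules.pullback b₂).map q) ≫ (c Q).hom =
      (c T₂).hom ≫ (Scheme.Modules.pullback j₁).map q :=
    ((Scheme.Modules.pullbackComp j₂ b₂) ≪≫ Scheme.Modules.pullbackCongr hjb₂).hom.naturality q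
  refine ⟨Y₂, b₂ ≫ b₁, j₂, hj₂, hd₂, by rw [reassoc_of% hjb₂, hjb₁], inferInstance,
    fun y hy => hr₂ y (hr₁ _ hy), exists_ses j₂ S hS p (M2.isFinLocFree_pullback b₂ hT₂) hT₃ e₂' e₃' ?_⟩
  show P₂.map ((Scheme.Modules.pullback b₂).map q ≫ π) ≫ inv (P₂.map π) ≫ (c Q).hom ≫ eQ.hom =
    ((c T₂).hom ≫ e₂.hom) ≫ S.g
  rw [P₂.map_comp, Category.assoc, IsIso.hom_inv_id_assoc, reassoc_of% hnat, hqe, Category.assoc]

end Groth.Agent.FinLocExt4
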